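import Mathlib
import Cfsg.Agent.Lib.Helper5.BNSteinberg

/-!
# The `W`-valued distance on `G ⧸ B` for a (B,N)-pair

Part I of the Feit–Higman theorem: the combinatorics of the coset geometry `G ⧸ B`.
-/

set_option autoImplicit false

namespace Cfsg.Agent.Lib.Helper5.FHData

open Cfsg Cfsg.Agent.Lib.Helper5.BN

variable {G : Type*} [Group G] (P : BNPair G)

theorem cell_eq_iff {g : G} {w : W P} : cell P g = w ↔ g ∈ C P w :=
  ⟨fun h => h ▸ mem_C_cell P g, cell_eq P⟩

theorem cell_inv (g : G) : cell P g⁻¹ = (cell P g)⁻¹ :=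
  cell_eq P (inv_mem_C P (mem_C_cell P g))

theorem cell_eq_one_iff {g : G} : cell P g = 1 ↔ g ∈ P.B := by
  rw [cell_eq_iff, C_one]; rfl

/-- the `W`-valued distance on `G ⧸ B` -/
noncomputable def dist (x y : G ⧸ P.B) : W P := cell P ((Quotient.out x)⁻¹ * Quotient.out y)

theorem dist_mk (g h : G) :
    dist P (QuotientGroup.mk g) (QuotientGroup.mk h) = cell P (g⁻¹ * h) := by
  obtain ⟨b, hb⟩ := QuotientGroup.mk_out_eq_mul P.B g
  obtain ⟨b', hb'⟩ := QuotientGroup.mk_out_eq_mul P.B h
  unfold dist
  rw [hb, hb']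
  have e : (g * (b : G))⁻¹ * (h * (b' : G)) = (b : G)⁻¹ * (g⁻¹ * h) * (b' : G) := by group
  rw [e, cell_mul_B P b'.2, cell_B_mul P (inv_mem b.2)]

theorem dist_eq_one_iff {x y : G ⧸ P.B} : dist P x y = 1 ↔ x = y := by
  induction x using QuotientGroup.induction_on with
  | _ g =>
    induction y using QuotientGroup.induction_on with
    | _ h => rw [dist_mk, cell_eq_one_iff, QuotientGroup.eq]

theorem dist_self (x : G ⧸ P.B) : dist P x x = 1 := (dist_eq_one_iff P).2 rfl

theorem dist_symm (x y : G ⧸ P.B) : dist P y x = (dist P x y)⁻¹ := by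
  induction x using QuotientGroup.induction_on with
  | _ g =>
    induction y using QuotientGroup.induction_on with
    | _ h =>
      rw [dist_mk, dist_mk, ← cell_inv]
      congr 1
      group

theorem smul_mk (g a : G) : g • (QuotientGroup.mk a : G ⧸ P.B) = QuotientGroup.mk (g * a) := rfl

theorem dist_smul (g : G) (x y : G ⧸ P.B) : dist P (g • x) (g • y) = dist P x y := by
  induction x using QuotientGroup.induction_on with
  | _ a =>
    induction y using QuotientGroup.induction_on with
    | _ c =>
      rw [smul_mk, smul_mk, dist_mk, dist_mk]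
      congr 1
      group

theorem dist_T1 {σ w : W P} (hσ : σ ∈ Sbar P) {x y z : G ⧸ P.B} (h1 : dist P x y = σ)
    (h2 : dist P y z = w) : dist P x z = σ * w ∨ dist P x z = w := by
  induction x using QuotientGroup.induction_on with
  | _ a =>
    induction y using QuotientGroup.induction_on with
    | _ b =>
      induction z using QuotientGroup.induction_on with
      | _ c =>
        simp only [dist_mk, cell_eq_iff] at *
        have h := T1W_left P hσ h1 h2
        have e : a⁻¹ * b * (b⁻¹ * c) = a⁻¹ * c := by group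
        rw [e] at h
        exact h

theorem dist_L2 {σ w : W P} (hσ : σ ∈ Sbar P) (hle : len P w ≤ len P (σ * w))
    {x y z : G ⧸ P.B} (h1 : dist P x y = σ) (h2 : dist P y z = w) : dist P x z = σ * w := by
  induction x using QuotientGroup.induction_on with
  | _ a =>
    induction y using QuotientGroup.induction_on with
    | _ b =>
      induction z using QuotientGroup.induction_on with
      | _ c =>
        simp only [dist_mk, cell_eq_iff] at *
        have h := L2 P hσ hle h1 h2
        have e : a⁻¹ * b * (b⁻¹ * c) = a⁻¹ * c := by group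
        rw [e] at h
        exact h

theorem exists_mid {w1 w2 : W P} {x z : G ⧸ P.B} (h : dist P x z = w1 * w2) :
    ∃ y, dist P x y = w1 ∧ dist P y z = w2 := by
  induction x using QuotientGroup.induction_on with
  | _ a =>
    induction z using QuotientGroup.induction_on with
    | _ c =>
      rw [dist_mk, cell_eq_iff] at h
      obtain ⟨y1, hy1, y2, hy2, e⟩ := C_mul_decomp P h
      refine ⟨QuotientGroup.mk (a * y1), ?_, ?_⟩
      · rw [dist_mk, cell_eq_iff]
        have : a⁻¹ * (a * y1) = y1 := by group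
        rw [this]; exact hy1
      · rw [dist_mk, cell_eq_iff]
        have : (a * y1)⁻¹ * c = y1⁻¹ * (a⁻¹ * c) := by group
        rw [this, e]
        have : y1⁻¹ * (y1 * y2) = y2 := by group
        rw [this]; exact hy2

theorem mid_unique {σ w : W P} (hσ : σ ∈ Sbar P) (hlt : len P w < len P (σ * w))
    {x y y' z : G ⧸ P.B} (h1 : dist P x y = σ) (h2 : dist P y z = w)
    (h1' : dist P x y' = σ) (h2' : dist P y' z = w) : y = y' := by
  have h3 : dist P y x = σ := by rw [dist_symm, h1, Sbar_inv P hσ]
  rcases dist_T1 P hσ h3 h1' with h | h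
  · rw [Sbar_sq P hσ] at h
    exact (dist_eq_one_iff P).1 h
  · exfalso
    have h4 := dist_L2 P hσ (le_of_lt hlt) h h2'
    rw [h2] at h4
    have : σ = 1 := by
      have h5 : σ * w = 1 * w := by rw [one_mul, ← h4]
      exact mul_right_cancel h5
    exact Sbar_ne_one P hσ this

/-- the parameters: `q w` is the number of points at distance `w` from a given point -/
noncomputable def q (w : W P) : ℕ :=
  Nat.card {y : G ⧸ P.B // dist P (QuotientGroup.mk 1) y = w}

theorem card_sphere (x : G ⧸ P.B) (w : W P) :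
    Nat.card {y : G ⧸ P.B // dist P x y = w} = q P w := by
  induction x using QuotientGroup.induction_on with
  | _ g =>
    have hg : g • (QuotientGroup.mk 1 : G ⧸ P.B) = QuotientGroup.mk g := by
      rw [smul_mk, mul_one]
    apply Nat.card_congr
    refine ⟨fun y => ⟨g⁻¹ • y.1, ?_⟩, fun y => ⟨g • y.1, ?_⟩, ?_, ?_⟩
    · rw [← dist_smul P g, smul_inv_smul, hg]; exact y.2
    · rw [← hg, dist_smul]; exact y.2
    · intro y; apply Subtype.ext; simp
    · intro y; apply Subtype.ext; simp

theorem two_le_q [Finite G] {σ : W P} (hσ : σ ∈ Sbar P) : 2 ≤ q P σ := by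
  obtain ⟨x, hx, y, hy, hxy⟩ := exists_sbs_W P hσ
  have h1 : dist P (QuotientGroup.mk 1) (QuotientGroup.mk x) = σ := by
    rw [dist_mk, cell_eq_iff]; simpa using hx
  have h2 : dist P (QuotientGroup.mk 1) (QuotientGroup.mk (x * y)) = σ := by
    rw [dist_mk, cell_eq_iff]; simpa using hxy
  have h3 : (QuotientGroup.mk x : G ⧸ P.B) ≠ QuotientGroup.mk (x * y) := by
    intro h
    have h4 := (dist_eq_one_iff P).2 h
    rw [dist_mk, cell_eq_iff] at h4
    have e : x⁻¹ * (x * y) = y := by group
    rw [e] at h4
    exact Sbar_ne_one P hσ (bruhat P (C_inj_of_inter P hy h4))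
  unfold q
  have : Nontrivial {y : G ⧸ P.B // dist P (QuotientGroup.mk 1) y = σ} :=
    ⟨⟨⟨_, h1⟩, ⟨_, h2⟩, fun h => h3 (congrArg Subtype.val h)⟩⟩
  exact Finite.one_lt_card

end Cfsg.Agent.Lib.Helper5.FHData
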