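import Mathlib

/-!
# The number-theoretic endgame of the Feit–Higman theorem

From the multiplicity formula `d m (ab+1-θ)(a+b+θ) = 2N(4ab-θ²)` for all
`θ = 2√(ab) cos(2πj/m)`, `0 < j < m/2`, we deduce `m ∈ {2,3,4,6,8}` (using Niven's theorem).
-/

set_option autoImplicit false

namespace Cfsg.Agent.Lib.Helper5.FHData

open Real

/-- if `cos (2π/n)` is in Niven's list then `n ∈ {1,2,3,4,6}` -/
theorem mem_of_cos_two_pi_div {n : ℕ} (hn : 1 ≤ n)
    (h : Real.cos (2 * π / n) ∈ ({-1, -1 / 2, 0, 1 / 2, 1} : Set ℝ)) :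
    n = 1 ∨ n = 2 ∨ n = 3 ∨ n = 4 ∨ n = 6 := by
  by_contra hcon
  have hn5 : n = 5 ∨ 7 ≤ n := by omega
  have hpi := Real.pi_pos
  rcases hn5 with rfl | h7
  · have e5 : ((5 : ℕ) : ℝ) = 5 := by norm_num
    rw [e5] at h
    have h1 : Real.cos (2 * π / 5) < 1 / 2 := by
      rw [← Real.cos_pi_div_three]
      apply Real.cos_lt_cos_of_nonneg_of_le_pi_div_two <;> linarith
    have h2 : 0 < Real.cos (2 * π / 5) := by
      apply Real.cos_pos_of_mem_Ioo
      constructor <;> linarith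
    simp only [Set.mem_insert_iff, Set.mem_singleton_iff] at h
    rcases h with h | h | h | h | h <;> linarith
  · have h7' : (7 : ℝ) ≤ n := by exact_mod_cast h7
    have hlt : 2 * π / n < π / 3 := by
      rw [div_lt_div_iff₀ (by linarith) (by norm_num)]
      nlinarith
    have hpos : 0 < 2 * π / (n : ℝ) := by positivity
    have h1 : 1 / 2 < Real.cos (2 * π / n) := by
      rw [← Real.cos_pi_div_three]
      apply Real.cos_lt_cos_of_nonneg_of_le_pi_div_two <;> linarith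
    have h2 : Real.cos (2 * π / n) < 1 := by
      rw [← Real.cos_zero]
      apply Real.cos_lt_cos_of_nonneg_of_le_pi_div_two <;> linarith
    simp only [Set.mem_insert_iff, Set.mem_singleton_iff] at h
    rcases h with h | h | h | h | h <;> linarith

/-- rational `cos (2π/n)` forces `n ∈ {1,2,3,4,6}` -/
theorem mem_of_cos_two_pi_div_rat {n : ℕ} (hn : 1 ≤ n) (h : ∃ r : ℚ, Real.cos (2 * π / n) = r) :
    n = 1 ∨ n = 2 ∨ n = 3 ∨ n = 4 ∨ n = 6 := by
  apply mem_of_cos_two_pi_div hn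
  apply niven _ h
  refine ⟨2 / n, ?_⟩
  push_cast
  ring

/-- rationality of `θ` from the two multiplicity equations at `θ` and `-θ` -/
theorem rational_of_pair {a b N m d d' : ℕ} (ha : 2 ≤ a) (hb : 2 ≤ b) (hN : 0 < N) (hm : 0 < m)
    (hd : 0 < d) (hd' : 0 < d') {θ : ℝ}
    (h1 : (d : ℝ) * m * ((a * b + 1 - θ) * (a + b + θ)) = 2 * N * (4 * a * b - θ ^ 2))
    (h2 : (d' : ℝ) * m * ((a * b + 1 + θ) * (a + b - θ)) = 2 * N * (4 * a * b - θ ^ 2)) :
    ∃ r : ℚ, θ = r := by
  have ha' : (2 : ℝ) ≤ a := by exact_mod_cast ha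
  have hb' : (2 : ℝ) ≤ b := by exact_mod_cast hb
  have hN' : (0 : ℝ) < N := by exact_mod_cast hN
  have hm' : (0 : ℝ) < m := by exact_mod_cast hm
  have hd0 : (0 : ℝ) < d := by exact_mod_cast hd
  have hd0' : (0 : ℝ) < d' := by exact_mod_cast hd'
  set K : ℝ := (a * b + 1) * (a + b) with hK
  set c : ℝ := (a - 1) * (b - 1) with hc
  have hK4 : 4 * (a : ℝ) * b < K := by
    rw [hK]
    have hab0 : 0 ≤ (a : ℝ) * b := by positivity
    have : ((a : ℝ) * b + 1) * 4 ≤ (a * b + 1) * (a + b) :=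
      mul_le_mul_of_nonneg_left (by linarith) (by linarith)
    linarith
  have hc0 : 0 < c := by rw [hc]; exact mul_pos (by linarith) (by linarith)
  have e1 : ((a : ℝ) * b + 1 - θ) * (a + b + θ) = K + c * θ - θ ^ 2 := by rw [hK, hc]; ring
  have e2 : ((a : ℝ) * b + 1 + θ) * (a + b - θ) = K - c * θ - θ ^ 2 := by rw [hK, hc]; ring
  rw [e1] at h1
  rw [e2] at h2
  have h12 : (d : ℝ) * (K + c * θ - θ ^ 2) = d' * (K - c * θ - θ ^ 2) := by
    have : (m : ℝ) * ((d : ℝ) * (K + c * θ - θ ^ 2)) = m * (d' * (K - c * θ - θ ^ 2)) := by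
      linarith
    exact mul_left_cancel₀ (ne_of_gt hm') this
  by_cases hdd : d = d'
  · subst hdd
    have h3 : (d : ℝ) * (2 * c * θ) = 0 := by linarith
    have h4 : θ = 0 := by
      rcases mul_eq_zero.1 h3 with h | h
      · linarith
      · rcases mul_eq_zero.1 h with h | h
        · linarith
        · exact h
    exact ⟨0, by rw [h4]; simp⟩
  · have hδ : (d : ℝ) - d' ≠ 0 := by
      intro h; apply hdd; exact_mod_cast sub_eq_zero.1 h
    -- `K - θ² = r θ`
    set r : ℝ := -((d : ℝ) + d') * c / (d - d') with hr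
    have h3 : K - θ ^ 2 = r * θ := by
      rw [hr]
      field_simp
      linarith
    have h4 : θ * ((d : ℝ) * m * (r + c) - 2 * N * r) = 2 * N * (4 * a * b - K) := by
      have : θ ^ 2 = K - r * θ := by linarith
      rw [this] at h1
      linarith
    have he : (d : ℝ) * m * (r + c) - 2 * N * r ≠ 0 := by
      intro h
      rw [h, mul_zero] at h4
      have : (2 : ℝ) * N * (4 * a * b - K) < 0 := by
        apply mul_neg_of_pos_of_neg <;> linarith
      linarith
    have h5 : θ = 2 * N * (4 * a * b - K) / ((d : ℝ) * m * (r + c) - 2 * N * r) := by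
      rw [eq_div_iff he]; exact h4
    refine ⟨2 * N * (4 * a * b - (a * b + 1) * (a + b)) /
      ((d : ℚ) * m * (-((d : ℚ) + d') * (((a : ℚ) - 1) * (b - 1)) / (d - d')
        + ((a : ℚ) - 1) * (b - 1)) - 2 * N * (-((d : ℚ) + d') * (((a : ℚ) - 1) * (b - 1)) / (d - d'))), ?_⟩
    rw [h5]
    push_cast
    rfl

/-- the eigenvalue `θ_j = 2 √(ab) cos (2πj/m)` -/
noncomputable def theta (a b m j : ℕ) : ℝ := 2 * √((a : ℝ) * b) * Real.cos (2 * π * j / m)

theorem theta_neg {a b h j : ℕ} (hj : j < h) :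
    theta a b (2 * h) (h - j) = - theta a b (2 * h) j := by
  unfold theta
  have hh : (h : ℝ) ≠ 0 := by
    have : 0 < h := by omega
    exact_mod_cast this.ne'
  have e : 2 * π * ((h - j : ℕ) : ℝ) / ((2 * h : ℕ) : ℝ) = π - 2 * π * j / ((2 * h : ℕ) : ℝ) := by
    rw [Nat.cast_sub hj.le]
    push_cast
    field_simp
  rw [e, Real.cos_pi_sub]
  ring

/-- the even case `m = 2 h` -/
theorem even_case {h a b N : ℕ} (hh : 2 ≤ h) (ha : 2 ≤ a) (hb : 2 ≤ b) (hN : 0 < N)
    (hyp : ∀ j : ℕ, 0 < j → j < h → ∃ d : ℕ, 0 < d ∧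
      (d : ℝ) * ((2 * h : ℕ) : ℝ) * ((a * b + 1 - theta a b (2 * h) j) *
          (a + b + theta a b (2 * h) j)) =
        2 * N * (4 * a * b - theta a b (2 * h) j ^ 2)) :
    h = 2 ∨ h = 3 ∨ h = 4 := by
  have hab0 : (0 : ℝ) < (a : ℝ) * b := by
    have : 0 < a * b := Nat.mul_pos (by omega) (by omega)
    exact_mod_cast this
  -- (i) all `θ_j` are rational
  have hrat : ∀ j : ℕ, 0 < j → j < h → ∃ r : ℚ, theta a b (2 * h) j = r := by
    intro j hj0 hjh
    obtain ⟨d, hd, e1⟩ := hyp j hj0 hjh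
    obtain ⟨d', hd', e2⟩ := hyp (h - j) (by omega) (by omega)
    rw [theta_neg hjh] at e2
    set θ := theta a b (2 * h) j
    have e2' : (d' : ℝ) * ((2 * h : ℕ) : ℝ) * ((a * b + 1 + θ) * (a + b - θ)) =
        2 * N * (4 * a * b - θ ^ 2) := by
      rw [show ((a : ℝ) * b + 1 + θ) = (a * b + 1 - -θ) by ring,
        show ((a : ℝ) + b - θ) = a + b + -θ by ring, show θ ^ 2 = (-θ) ^ 2 by ring]
      exact e2
    exact rational_of_pair ha hb hN (by omega) hd hd' e1 e2'
  -- (ii) `cos (2π/h)` is rational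
  have hh0 : (h : ℝ) ≠ 0 := by
    have : 0 < h := by omega
    exact_mod_cast this.ne'
  have hcos : ∃ r : ℚ, Real.cos (2 * π / h) = r := by
    obtain ⟨r, hr⟩ := hrat 1 (by omega) (by omega)
    unfold theta at hr
    set x : ℝ := 2 * π * ((1 : ℕ) : ℝ) / ((2 * h : ℕ) : ℝ) with hx
    have hx2 : 2 * π / h = 2 * x := by
      rw [hx]; push_cast; field_simp
    have h1 : Real.cos (2 * π / h) = 2 * Real.cos x ^ 2 - 1 := by
      rw [hx2, Real.cos_two_mul]
    have h2 : (r : ℝ) ^ 2 = 4 * ((a : ℝ) * b) * Real.cos x ^ 2 := by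
      rw [← hr, mul_pow, mul_pow, Real.sq_sqrt hab0.le]; ring
    refine ⟨r ^ 2 / (2 * (a * b)) - 1, ?_⟩
    rw [h1]
    push_cast
    rw [h2]
    field_simp
    ring
  -- (iii) Niven
  rcases mem_of_cos_two_pi_div_rat (by omega) hcos with h1 | h1 | h1 | h1 | h1
  · omega
  · exact Or.inl h1
  · exact Or.inr (Or.inl h1)
  · exact Or.inr (Or.inr h1)
  · -- (iv) `h = 6` is impossible: `θ_1 / θ_2 = √3`
    exfalso
    subst h1
    obtain ⟨r1, hr1⟩ := hrat 1 (by omega) (by omega)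
    obtain ⟨r2, hr2⟩ := hrat 2 (by omega) (by omega)
    unfold theta at hr1 hr2
    have e1 : 2 * π * ((1 : ℕ) : ℝ) / ((2 * 6 : ℕ) : ℝ) = π / 6 := by
      push_cast; field_simp; ring
    have e2 : 2 * π * ((2 : ℕ) : ℝ) / ((2 * 6 : ℕ) : ℝ) = π / 3 := by
      push_cast; field_simp; ring
    rw [e1, Real.cos_pi_div_six] at hr1
    rw [e2, Real.cos_pi_div_three] at hr2
    have hs : 0 < √((a : ℝ) * b) := Real.sqrt_pos.2 hab0
    have hr2' : √((a : ℝ) * b) = r2 := by linarith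
    have hr1' : √((a : ℝ) * b) * √3 = r1 := by linarith
    have h3 : Irrational (√((3 : ℕ) : ℝ)) := Nat.prime_three.irrational_sqrt
    apply h3
    refine ⟨r1 / r2, ?_⟩
    push_cast
    rw [← hr1', ← hr2']
    field_simp

/-- the odd case (`a = b`) -/
theorem odd_case {m a N : ℕ} (hm : 3 ≤ m) (ha : 2 ≤ a) (hN : 0 < N)
    (hyp : ∃ d : ℕ, 0 < d ∧
      (d : ℝ) * (m : ℝ) * ((a * a + 1 - theta a a m 1) * (a + a + theta a a m 1)) =
        2 * N * (4 * a * a - theta a a m 1 ^ 2)) :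
    m = 1 ∨ m = 2 ∨ m = 3 ∨ m = 4 ∨ m = 6 := by
  obtain ⟨d, hd, e⟩ := hyp
  have ha' : (2 : ℝ) ≤ a := by exact_mod_cast ha
  have hN' : (0 : ℝ) < N := by exact_mod_cast hN
  have hm' : (3 : ℝ) ≤ m := by exact_mod_cast hm
  have hd' : (0 : ℝ) < d := by exact_mod_cast hd
  have hpi := Real.pi_pos
  set x : ℝ := Real.cos (2 * π / m) with hx
  have hθ : theta a a m 1 = 2 * a * x := by
    unfold theta
    rw [Real.sqrt_mul_self (by linarith), Nat.cast_one, mul_one]
  rw [hθ] at e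
  -- `-1 < x`
  have hx1 : -1 < x := by
    rw [hx, ← Real.cos_pi]
    apply Real.cos_lt_cos_of_nonneg_of_le_pi
    · positivity
    · exact le_rfl
    · rw [div_lt_iff₀ (by linarith)]
      nlinarith
  have h0 : 2 * (a : ℝ) * (1 + x) ≠ 0 := by
    apply ne_of_gt
    apply mul_pos <;> linarith
  have key : (d : ℝ) * m * (a * a + 1 - 2 * a * x) = 4 * N * a * (1 - x) := by
    apply mul_right_cancel₀ h0
    have l : (d : ℝ) * m * ((a * a + 1 - 2 * a * x) * (a + a + 2 * a * x)) =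
        (d : ℝ) * m * (a * a + 1 - 2 * a * x) * (2 * a * (1 + x)) := by ring
    have r : 2 * (N : ℝ) * (4 * a * a - (2 * a * x) ^ 2) = 4 * N * a * (1 - x) * (2 * a * (1 + x)) := by
      ring
    rw [← l, ← r]; exact e
  -- `x (4 N a - 2 a d m) = 4 N a - d m (a² + 1)`
  have key2 : x * (4 * (N : ℝ) * a - 2 * a * d * m) = 4 * N * a - d * m * (a * a + 1) := by
    linarith
  have hne : 4 * (N : ℝ) * a - 2 * a * d * m ≠ 0 := by
    intro h
    rw [h, mul_zero] at key2
    -- `2 N = d m` and `4 N a = d m (a² + 1)`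
    have h1 : 2 * (N : ℝ) = d * m := by
      have : (2 * (a : ℝ)) * (2 * N - d * m) = 0 := by linarith
      rcases mul_eq_zero.1 this with h | h
      · linarith
      · linarith
    have h2 : 2 * (N : ℝ) * ((a - 1) * (a - 1)) = 0 := by
      have : (d : ℝ) * m * (a * a + 1) = 2 * N * (a * a + 1) := by rw [h1]
      nlinarith
    rcases mul_eq_zero.1 h2 with h | h
    · linarith
    · rcases mul_eq_zero.1 h with h | h <;> linarith
  have hxr : ∃ r : ℚ, Real.cos (2 * π / m) = r := by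
    refine ⟨(4 * N * a - d * m * (a * a + 1)) / (4 * N * a - 2 * a * d * m), ?_⟩
    push_cast
    rw [eq_div_iff hne]
    exact key2
  exact mem_of_cos_two_pi_div_rat (by omega) hxr

/-- **The endgame of Feit–Higman.** -/
theorem fh_endgame (m a b N : ℕ) (hm : 2 ≤ m) (ha : 2 ≤ a) (hb : 2 ≤ b) (hN : 0 < N)
    (hab : Odd m → a = b)
    (hyp : ∀ j : ℕ, 0 < j → 2 * j < m → ∃ d : ℕ, 0 < d ∧
      (d : ℝ) * (m : ℝ) * ((a * b + 1 - theta a b m j) * (a + b + theta a b m j)) =
        2 * N * (4 * a * b - theta a b m j ^ 2)) :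
    m ∈ ({2, 3, 4, 6, 8} : Set ℕ) := by
  simp only [Set.mem_insert_iff, Set.mem_singleton_iff]
  rcases Nat.even_or_odd m with hev | hodd
  · obtain ⟨h, rfl⟩ := hev
    rcases Nat.lt_or_ge h 2 with h1 | h2
    · left; omega
    · have h2m : h + h = 2 * h := by ring
      rw [h2m] at hyp
      have := even_case h2 ha hb hN (fun j hj0 hjh => hyp j hj0 (by omega))
      omega
  · have hb' := hab hodd
    subst hb'
    have hm3 : 3 ≤ m := by
      obtain ⟨k, rfl⟩ := hodd
      omega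
    have := odd_case hm3 ha hN (hyp 1 (by omega) (by omega))
    obtain ⟨k, rfl⟩ := hodd
    omega

end Cfsg.Agent.Lib.Helper5.FHData
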