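import Mathlib
import Cfsg.Agent.Lib.Helper5.FHData.Dist
import Cfsg.Agent.Lib.Helper5.BNCoxeter

/-!
# The adjacency matrices `A_w` of the coset geometry `G ⧸ B`

`Aw P w` is the real `0/1` matrix of the relation `dist x y = w` on `G ⧸ B`.
-/

set_option autoImplicit false

namespace Cfsg.Agent.Lib.Helper5.FHData

open Cfsg Cfsg.Agent.Lib.Helper5.BN

variable {G : Type*} [Group G] (P : BNPair G)

open Classical in
/-- the adjacency matrix of the relation `dist x y = w` -/
noncomputable def Aw (w : W P) : Matrix (G ⧸ P.B) (G ⧸ P.B) ℝ :=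
  Matrix.of fun x y => if dist P x y = w then 1 else 0

open Classical in
theorem Aw_apply (w : W P) (x y : G ⧸ P.B) :
    Aw P w x y = if dist P x y = w then 1 else 0 := rfl

theorem Aw_transpose (w : W P) : (Aw P w).transpose = Aw P w⁻¹ := by
  classical
  ext x y
  rw [Matrix.transpose_apply, Aw_apply, Aw_apply, dist_symm P x y]
  simp only [inv_eq_iff_eq_inv]

theorem Aw_isSymm {σ : W P} (hσ : σ ∈ Sbar P) : (Aw P σ).IsSymm := by
  unfold Matrix.IsSymm
  rw [Aw_transpose, Sbar_inv P hσ]

variable [Fintype (G ⧸ P.B)]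

open Classical in
theorem sum_Aw_row (w : W P) (x : G ⧸ P.B) : ∑ y, Aw P w x y = (q P w : ℝ) := by
  simp only [Aw_apply]
  rw [Finset.sum_boole, ← card_sphere P x w, Nat.card_eq_fintype_card, Fintype.card_subtype]

open Classical in
theorem sum_Aw_col (w : W P) (y : G ⧸ P.B) : ∑ x, Aw P w x y = (q P w⁻¹ : ℝ) := by
  rw [← sum_Aw_row P w⁻¹ y]
  apply Finset.sum_congr rfl
  intro x _
  rw [← Aw_transpose, Matrix.transpose_apply]

variable [DecidableEq (G ⧸ P.B)]

omit [Fintype (G ⧸ P.B)] in
theorem Aw_one : Aw P 1 = 1 := by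
  classical
  ext x y
  rw [Aw_apply, Matrix.one_apply]
  simp only [dist_eq_one_iff]

omit [DecidableEq (G ⧸ P.B)] in
theorem Aw_mul {σ w : W P} (hσ : σ ∈ Sbar P) (hlt : len P w < len P (σ * w)) :
    Aw P σ * Aw P w = Aw P (σ * w) := by
  classical
  ext x z
  rw [Matrix.mul_apply, Aw_apply]
  simp only [Aw_apply]
  split_ifs with h
  · obtain ⟨y0, h1, h2⟩ := exists_mid P h
    rw [Finset.sum_eq_single y0]
    · rw [if_pos h1, if_pos h2, mul_one]
    · intro y _ hy
      by_cases h3 : dist P x y = σ
      · by_cases h4 : dist P y z = w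
        · exact absurd (mid_unique P hσ hlt h3 h4 h1 h2) hy
        · rw [if_neg h4, mul_zero]
      · rw [if_neg h3, zero_mul]
    · intro hy; exact absurd (Finset.mem_univ _) hy
  · apply Finset.sum_eq_zero
    intro y _
    by_cases h3 : dist P x y = σ
    · by_cases h4 : dist P y z = w
      · exact absurd (dist_L2 P hσ (le_of_lt hlt) h3 h4) h
      · rw [if_neg h4, mul_zero]
    · rw [if_neg h3, zero_mul]

theorem Aw_sq {σ : W P} (hσ : σ ∈ Sbar P) :
    Aw P σ * Aw P σ = (q P σ : ℝ) • (1 : Matrix (G ⧸ P.B) (G ⧸ P.B) ℝ)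
      + ((q P σ : ℝ) - 1) • Aw P σ := by
  classical
  ext x z
  rw [Matrix.mul_apply, Matrix.add_apply, Matrix.smul_apply, Matrix.smul_apply, Matrix.one_apply,
    smul_eq_mul, smul_eq_mul]
  by_cases hxz : x = z
  · subst hxz
    have h0 : ¬ dist P x x = σ := by
      rw [dist_self]; exact fun h => Sbar_ne_one P hσ h.symm
    rw [if_pos rfl, Aw_apply P σ x x, if_neg h0, mul_one, mul_zero, add_zero, ← sum_Aw_row P σ x]
    apply Finset.sum_congr rfl
    intro y _
    rw [Aw_apply, Aw_apply, dist_symm P x y]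
    by_cases h : dist P x y = σ
    · rw [if_pos h, h, Sbar_inv P hσ, if_pos rfl, mul_one]
    · rw [if_neg h, zero_mul]
  · rw [if_neg hxz, mul_zero, zero_add, Aw_apply P σ x z]
    by_cases hd : dist P x z = σ
    · rw [if_pos hd, mul_one]
      -- the `y` with both conditions are those with `dist x y = σ` and `y ≠ z`
      have key : ∀ y, Aw P σ x y * Aw P σ y z = Aw P σ x y - if y = z then 1 else 0 := by
        intro y
        rw [Aw_apply, Aw_apply]
        by_cases h1 : dist P x y = σ
        · rw [if_pos h1, one_mul]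
          by_cases hyz : y = z
          · subst hyz
            rw [dist_self, if_pos rfl, if_neg (fun h => Sbar_ne_one P hσ h.symm)]; ring
          · rw [if_neg hyz, sub_zero]
            have h2 : dist P y x = σ := by rw [dist_symm, h1, Sbar_inv P hσ]
            rcases dist_T1 P hσ h2 hd with h | h
            · rw [Sbar_sq P hσ] at h
              exact absurd ((dist_eq_one_iff P).1 h) hyz
            · rw [if_pos h]
        · rw [if_neg h1, zero_mul]
          by_cases hyz : y = z
          · subst hyz; exact absurd hd h1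
          · rw [if_neg hyz, sub_zero]
      rw [Finset.sum_congr rfl (fun y _ => key y), Finset.sum_sub_distrib, sum_Aw_row,
        Finset.sum_ite_eq' Finset.univ z]
      simp
    · rw [if_neg hd, mul_zero]
      apply Finset.sum_eq_zero
      intro y _
      rw [Aw_apply, Aw_apply]
      by_cases h1 : dist P x y = σ
      · by_cases h2 : dist P y z = σ
        · exfalso
          rcases dist_T1 P hσ h1 h2 with h | h
          · rw [Sbar_sq P hσ] at h
            exact hxz ((dist_eq_one_iff P).1 h)
          · exact hd h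
        · rw [if_neg h2, mul_zero]
      · rw [if_neg h1, zero_mul]

omit [DecidableEq (G ⧸ P.B)] in
open Classical in
/-- Frobenius orthogonality of the `A_w` -/
theorem trace_Aw_mul (w w' : W P) :
    Matrix.trace ((Aw P w).transpose * Aw P w') =
      if w = w' then (Fintype.card (G ⧸ P.B) : ℝ) * (q P w : ℝ) else 0 := by
  classical
  rw [Matrix.trace]
  simp only [Matrix.diag_apply, Matrix.mul_apply, Matrix.transpose_apply]
  rw [Finset.sum_comm]
  split_ifs with h
  · subst h
    have : ∀ x, ∑ y, Aw P w x y * Aw P w x y = (q P w : ℝ) := by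
      intro x
      rw [← sum_Aw_row P w x]
      apply Finset.sum_congr rfl
      intro y _
      rw [Aw_apply]
      split_ifs <;> simp
    rw [Finset.sum_congr rfl (fun x _ => this x), Finset.sum_const, Finset.card_univ, nsmul_eq_mul]
  · apply Finset.sum_eq_zero
    intro x _
    apply Finset.sum_eq_zero
    intro y _
    rw [Aw_apply, Aw_apply]
    by_cases h1 : dist P x y = w
    · rw [if_neg (fun h2 => h (h1.symm.trans h2)), mul_zero]
    · rw [if_neg h1, zero_mul]

omit [DecidableEq (G ⧸ P.B)] in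
theorem Aw_mulVec_one (w : W P) :
    (Aw P w).mulVec (fun _ => (1 : ℝ)) = fun _ => (q P w : ℝ) := by
  ext x
  rw [Matrix.mulVec, dotProduct]
  simp only [mul_one]
  exact sum_Aw_row P w x

omit [DecidableEq (G ⧸ P.B)] in
theorem q_mul {σ w : W P} (hσ : σ ∈ Sbar P) (hlt : len P w < len P (σ * w)) :
    q P (σ * w) = q P σ * q P w := by
  have h1 := Aw_mulVec_one P (σ * w)
  rw [← Aw_mul P hσ hlt, ← Matrix.mulVec_mulVec, Aw_mulVec_one] at h1
  have h2 : (Aw P σ).mulVec (fun _ => (q P w : ℝ)) = fun _ => (q P σ : ℝ) * (q P w : ℝ) := by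
    have : (fun _ : G ⧸ P.B => (q P w : ℝ)) = (q P w : ℝ) • (fun _ => (1 : ℝ)) := by
      ext; simp
    rw [this, Matrix.mulVec_smul, Aw_mulVec_one]
    ext; simp [mul_comm]
  rw [h2] at h1
  have h3 := congrFun h1 (QuotientGroup.mk 1)
  exact_mod_cast h3.symm

omit [Fintype (G ⧸ P.B)] [DecidableEq (G ⧸ P.B)] in
theorem q_one : q P 1 = 1 := by
  unfold q
  rw [Nat.card_eq_one_iff_unique]
  refine ⟨⟨?_⟩, ⟨⟨_, dist_self P _⟩⟩⟩
  intro a b
  apply Subtype.ext
  rw [← (dist_eq_one_iff P).1 a.2, ← (dist_eq_one_iff P).1 b.2]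

/-- the product of the `A_σ` along a reduced word -/
theorem Aw_prod : ∀ L : List (W P), IsReduced P L → (L.map (Aw P)).prod = Aw P L.prod := by
  intro L
  induction L with
  | nil => intro _; simp [Aw_one]
  | cons σ L ih =>
    intro h
    have hσ : σ ∈ Sbar P := ((isWord_cons P).1 h.1).1
    have h2 := len_lt_of_reduced_cons P h
    rw [List.prod_cons, Sbar_mul_cancel P hσ] at h2
    rw [List.map_cons, List.prod_cons, List.prod_cons, ih (isReduced_tail P h), Aw_mul P hσ h2]

omit [DecidableEq (G ⧸ P.B)] in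
theorem q_prod :
    ∀ L : List (W P), IsReduced P L → q P L.prod = (L.map (q P)).prod := by
  intro L
  induction L with
  | nil => intro _; simp [q_one]
  | cons σ L ih =>
    intro h
    have hσ : σ ∈ Sbar P := ((isWord_cons P).1 h.1).1
    have h2 := len_lt_of_reduced_cons P h
    rw [List.prod_cons, Sbar_mul_cancel P hσ] at h2
    rw [List.map_cons, List.prod_cons, List.prod_cons, ← ih (isReduced_tail P h), q_mul P hσ h2]

end Cfsg.Agent.Lib.Helper5.FHData
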