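import Mathlib
import Cfsg.Agent.Lib.Helper5.BNSteinberg
import Cfsg.Agent.Lib.Helper5.BNCoxeter
import Cfsg.Agent.S0206

/-!
# The Weyl group of a (B,N)-pair of rank 2

`W` is dihedral of order `2 m`, `m = orderOf (σ τ)`, and the two alternating words of length `m`
are reduced words of the longest element.
-/

set_option autoImplicit false

namespace Cfsg.Agent.Lib.Helper5.FHData

open Cfsg Cfsg.Agent.Lib.Helper5.BN

variable {G : Type*} [Group G] (P : BNPair G)

theorem exists_Sbar_eq_pair (h2 : P.rank = 2) :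
    ∃ σ τ : W P, σ ∈ Sbar P ∧ τ ∈ Sbar P ∧ σ ≠ τ ∧ Sbar P = {σ, τ} := by
  have h : Nat.card P.S = 2 := h2
  rw [Nat.card_eq_two_iff] at h
  obtain ⟨s, t, hst, huniv⟩ := h
  refine ⟨sg P s, sg P t, sg_mem P s, sg_mem P t, fun h => hst (sg_injective P h), ?_⟩
  ext ρ
  constructor
  · intro hρ
    obtain ⟨u, rfl⟩ := exists_sg P hρ
    have hu : u ∈ ({s, t} : Set P.S) := by rw [huniv]; exact Set.mem_univ _
    rcases hu with rfl | hu
    · exact Or.inl rfl
    · rw [Set.mem_singleton_iff] at hu
      rw [hu]; exact Or.inr rfl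
  · rintro (rfl | h)
    · exact sg_mem P s
    · rw [Set.mem_singleton_iff] at h
      rw [h]; exact sg_mem P t

theorem altw_succ_last {α : Type*} (a b : α) (k : ℕ) :
    altw a b (k + 1) = altw a b k ++ [if k % 2 = 0 then a else b] := by
  induction k generalizing a b with
  | zero => rfl
  | succ k ih =>
    rw [altw, ih b a, altw, List.cons_append]
    congr 2
    rcases Nat.mod_two_eq_zero_or_one k with h | h
    · have : (k + 1) % 2 = 1 := by omega
      rw [if_pos h, if_neg (by omega)]
    · have : (k + 1) % 2 = 0 := by omega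
      rw [if_neg (by omega), if_pos this]

theorem not_isReduced_double {x : W P} (hx : x ∈ Sbar P) (L : List (W P)) :
    ¬ IsReduced P (L ++ [x, x]) := by
  intro h
  have h1 := h.2
  have hL : IsWord P L := ((isWord_append P).1 h.1).1
  have h2 : (L ++ [x, x]).prod = L.prod := by
    rw [List.prod_append]
    simp [Sbar_sq P hx]
  rw [h2, List.length_append] at h1
  have h3 := len_le_of_word P hL
  simp at h1
  omega

theorem exists_longest [Finite G] : ∃ w0 : W P, ∀ v, len P v ≤ len P w0 := by
  have : Finite (W P) := inferInstance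
  exact Finite.exists_max (len P)

theorem rank2_structure [Finite G] {σ τ : W P} (hσ : σ ∈ Sbar P) (hτ : τ ∈ Sbar P) (hne : σ ≠ τ)
    (hS : Sbar P = {σ, τ}) :
    2 ≤ orderOf (σ * τ) ∧ IsReduced P (altw σ τ (orderOf (σ * τ))) ∧
      IsReduced P (altw τ σ (orderOf (σ * τ))) ∧
      (altw σ τ (orderOf (σ * τ))).prod = (altw τ σ (orderOf (σ * τ))).prod ∧
      Nat.card (W P) = 2 * orderOf (σ * τ) := by
  obtain ⟨w0, hw0⟩ := exists_longest P
  have h1 : len P (σ * w0) < len P w0 := lt_of_le_of_ne (hw0 _) (len_mul_ne P hσ)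
  have h2 : len P (τ * w0) < len P w0 := lt_of_le_of_ne (hw0 _) (len_mul_ne P hτ)
  obtain ⟨hm0, R, hR1, hR2, hR3, hR4⟩ := dihedral_factor' P hσ hτ h1 h2
  set m := orderOf (σ * τ) with hm
  have hm2 : 2 ≤ m := by
    have : m ≠ 1 := by
      intro h
      rw [hm, orderOf_eq_one_iff] at h
      apply hne
      have := mul_eq_one_iff_eq_inv.1 h
      rw [this, Sbar_inv P hτ]
    omega
  have hR : R = [] := by
    cases R with
    | nil => rfl
    | cons ρ R' =>
      exfalso
      have hρ : ρ ∈ Sbar P := by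
        have := ((isWord_append P).1 hR1.1).2
        exact ((isWord_cons P).1 this).1
      obtain ⟨k, hk⟩ : ∃ k, m = k + 1 := ⟨m - 1, by omega⟩
      have e1 : altw σ τ m ++ ρ :: R' =
          (altw σ τ k ++ [if k % 2 = 0 then σ else τ, ρ]) ++ R' := by
        rw [hk, altw_succ_last]; simp
      have e2 : altw τ σ m ++ ρ :: R' =
          (altw τ σ k ++ [if k % 2 = 0 then τ else σ, ρ]) ++ R' := by
        rw [hk, altw_succ_last]; simp
      rw [e1] at hR1
      rw [e2] at hR3
      have r1 := isReduced_of_append_left P hR1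
      have r2 := isReduced_of_append_left P hR3
      rw [hS] at hρ
      rcases hρ with rfl | hρ
      · by_cases hk2 : k % 2 = 0
        · rw [if_pos hk2] at r1
          exact not_isReduced_double P hσ _ r1
        · rw [if_neg hk2] at r2
          exact not_isReduced_double P hσ _ r2
      · rw [Set.mem_singleton_iff] at hρ
        subst hρ
        by_cases hk2 : k % 2 = 0
        · rw [if_pos hk2] at r2
          exact not_isReduced_double P hτ _ r2
        · rw [if_neg hk2] at r1
          exact not_isReduced_double P hτ _ r1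
  subst hR
  rw [List.append_nil] at hR1 hR2 hR3 hR4
  refine ⟨hm2, hR1, hR3, hR2.trans hR4.symm, ?_⟩
  -- the order of `W`
  have hoσ : orderOf σ = 2 :=
    orderOf_eq_prime (by rw [pow_two]; exact Sbar_sq P hσ) (Sbar_ne_one P hσ)
  have hoτ : orderOf τ = 2 :=
    orderOf_eq_prime (by rw [pow_two]; exact Sbar_sq P hτ) (Sbar_ne_one P hτ)
  have : Finite (W P) := inferInstance
  obtain ⟨e⟩ := Cfsg.Agent.S0206.result σ τ hoσ hoτ hne
  have hc : Subgroup.closure ({σ, τ} : Set (W P)) = ⊤ := by rw [← hS]; exact closure_Sbar P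
  have h3 : Nat.card (Subgroup.closure ({σ, τ} : Set (W P))) = 2 * m := by
    rw [Nat.card_congr e.toEquiv, DihedralGroup.nat_card]
  rw [hc] at h3
  rw [← h3]
  exact (Nat.card_congr Subgroup.topEquiv.toEquiv).symm

theorem index_eq_card_W : ((P.B ⊓ P.N).subgroupOf P.N).index = Nat.card (W P) := by
  have : (P.B ⊓ P.N).subgroupOf P.N = T P := by
    unfold T
    rw [Subgroup.inf_subgroupOf_right]
  rw [this]
  rfl

end Cfsg.Agent.Lib.Helper5.FHData
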