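import Mathlib
import Cfsg.Agent.Lib.Helper5.FHData.Mat
import Cfsg.Agent.Lib.Helper5.FHData.Rank2

/-!
# The Feit–Higman data of a finite group with a (B,N)-pair of rank 2

`exists_fh_data`: two symmetric real matrices `A`, `B` on `G ⧸ B` with quadratic relations, the braid
relation of length `m` (where the Weyl group has order `2 m`), and the Frobenius inner products of all
alternating products of length at most `m`.
-/

set_option autoImplicit false

namespace Cfsg.Agent.Lib.Helper5.FHData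

open Cfsg Cfsg.Agent.Lib.Helper5.BN

variable {G : Type*} [Group G] (P : BNPair G)

theorem altw_prod_comm {M : Type*} [CommMonoid M] (a b : M) (k : ℕ) :
    (altw a b k).prod = a ^ ((k + 1) / 2) * b ^ (k / 2) := by
  induction k generalizing a b with
  | zero => simp [altw]
  | succ k ih =>
    rw [altw, List.prod_cons, ih b a]
    have h1 : (k + 1 + 1) / 2 = k / 2 + 1 := by omega
    rw [h1, pow_succ]
    ac_rfl

theorem isReduced_altw_le {σ τ : W P} {m : ℕ} (h : IsReduced P (altw σ τ m)) :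
    ∀ k ≤ m, IsReduced P (altw σ τ k) := by
  induction m with
  | zero =>
    intro k hk
    have : k = 0 := by omega
    subst this; exact h
  | succ m ih =>
    intro k hk
    rcases Nat.lt_or_ge k (m + 1) with h1 | h1
    · rw [altw_succ_last] at h
      exact ih (isReduced_of_append_left P h) k (by omega)
    · have : k = m + 1 := by omega
      subst this; exact h

theorem len_altw {σ τ : W P} {m : ℕ} (h : IsReduced P (altw σ τ m)) {k : ℕ} (hk : k ≤ m) :
    len P (altw σ τ k).prod = k := by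
  have := (isReduced_altw_le P h k hk).2
  rw [altw_length] at this
  exact this.symm

variable [Fintype (G ⧸ P.B)]

theorem altw_Aw_prod [DecidableEq (G ⧸ P.B)] {σ τ : W P} {m : ℕ} (h : IsReduced P (altw σ τ m))
    {k : ℕ} (hk : k ≤ m) :
    (altw (Aw P σ) (Aw P τ) k).prod = Aw P (altw σ τ k).prod := by
  rw [← Aw_prod P _ (isReduced_altw_le P h k hk), altw_map]

theorem q_altw {σ τ : W P} {m : ℕ} (h : IsReduced P (altw σ τ m))
    {k : ℕ} (hk : k ≤ m) :
    q P (altw σ τ k).prod = q P σ ^ ((k + 1) / 2) * q P τ ^ (k / 2) := by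
  rw [q_prod P _ (isReduced_altw_le P h k hk), altw_map, altw_prod_comm]

/-- **The Feit–Higman data.** For a finite group with a (B,N)-pair of rank 2 whose Weyl group has
order `2 m`: symmetric `0/1` matrices `A`, `B` on `G ⧸ B`, quadratic relations with parameters
`a, b ≥ 2`, the braid relation of length `m`, and the Frobenius inner products of the alternating
products of length `≤ m`. -/
theorem exists_fh_data [Finite G] [DecidableEq (G ⧸ P.B)] (h2 : P.rank = 2) :
    ∃ (m a b : ℕ) (A B : Matrix (G ⧸ P.B) (G ⧸ P.B) ℝ),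
      ((P.B ⊓ P.N).subgroupOf P.N).index = 2 * m ∧ 2 ≤ m ∧ 2 ≤ a ∧ 2 ≤ b ∧
      A.IsSymm ∧ B.IsSymm ∧
      A * A = (a : ℝ) • (1 : Matrix (G ⧸ P.B) (G ⧸ P.B) ℝ) + ((a : ℝ) - 1) • A ∧
      B * B = (b : ℝ) • (1 : Matrix (G ⧸ P.B) (G ⧸ P.B) ℝ) + ((b : ℝ) - 1) • B ∧
      (altw A B m).prod = (altw B A m).prod ∧
      (∀ k j, k ≤ m → j ≤ m →
        Matrix.trace ((altw A B k).prod.transpose * (altw A B j).prod) =
          if k = j then (Fintype.card (G ⧸ P.B) : ℝ) * ((a : ℝ) ^ ((k + 1) / 2) * (b : ℝ) ^ (k / 2))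
          else 0) ∧
      (∀ k j, k ≤ m → j ≤ m →
        Matrix.trace ((altw B A k).prod.transpose * (altw B A j).prod) =
          if k = j then (Fintype.card (G ⧸ P.B) : ℝ) * ((b : ℝ) ^ ((k + 1) / 2) * (a : ℝ) ^ (k / 2))
          else 0) ∧
      (∀ k j, k ≤ m → j ≤ m →
        Matrix.trace ((altw A B k).prod.transpose * (altw B A j).prod) =
          if k = j ∧ (k = 0 ∨ k = m) then
            (Fintype.card (G ⧸ P.B) : ℝ) * ((a : ℝ) ^ ((k + 1) / 2) * (b : ℝ) ^ (k / 2))
          else 0) := by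
  classical
  obtain ⟨σ, τ, hσ, hτ, hne, hS⟩ := exists_Sbar_eq_pair P h2
  obtain ⟨hm2, hr1, hr2, hprod, hcard⟩ := rank2_structure P hσ hτ hne hS
  set m := orderOf (σ * τ) with hm
  refine ⟨m, q P σ, q P τ, Aw P σ, Aw P τ, ?_, hm2, two_le_q P hσ, two_le_q P hτ,
    Aw_isSymm P hσ, Aw_isSymm P hτ, Aw_sq P hσ, Aw_sq P hτ, ?_, ?_, ?_, ?_⟩
  · rw [index_eq_card_W, hcard]
  · rw [altw_Aw_prod P hr1 le_rfl, altw_Aw_prod P hr2 le_rfl, hprod]
  · intro k j hk hj
    rw [altw_Aw_prod P hr1 hk, altw_Aw_prod P hr1 hj, trace_Aw_mul]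
    by_cases hkj : k = j
    · subst hkj
      rw [if_pos rfl, if_pos rfl, q_altw P hr1 hk]
      push_cast; ring
    · rw [if_neg hkj, if_neg]
      intro h
      apply hkj
      rw [← len_altw P hr1 hk, h, len_altw P hr1 hj]
  · intro k j hk hj
    rw [altw_Aw_prod P hr2 hk, altw_Aw_prod P hr2 hj, trace_Aw_mul]
    by_cases hkj : k = j
    · subst hkj
      rw [if_pos rfl, if_pos rfl, q_altw P hr2 hk]
      push_cast; ring
    · rw [if_neg hkj, if_neg]
      intro h
      apply hkj
      rw [← len_altw P hr2 hk, h, len_altw P hr2 hj]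
  · intro k j hk hj
    rw [altw_Aw_prod P hr1 hk, altw_Aw_prod P hr2 hj, trace_Aw_mul]
    by_cases hc : k = j ∧ (k = 0 ∨ k = m)
    · obtain ⟨rfl, h0 | h0⟩ := hc
      · subst h0
        rw [if_pos (by simp [altw]), if_pos ⟨rfl, Or.inl rfl⟩, q_altw P hr1 hk]
        push_cast; ring
      · subst h0
        rw [if_pos hprod, if_pos ⟨rfl, Or.inr rfl⟩, q_altw P hr1 hk]
        push_cast; ring
    · rw [if_neg hc, if_neg]
      intro h
      apply hc
      have hkj : k = j := by rw [← len_altw P hr1 hk, h, len_altw P hr2 hj]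
      subst hkj
      refine ⟨rfl, ?_⟩
      have h3 := pow_eq_one_of_altw_prod_eq σ τ (Sbar_sq P hσ) (Sbar_sq P hτ) k h
      have h4 := orderOf_dvd_of_pow_eq_one h3
      rcases Nat.eq_zero_or_pos k with h0 | h0
      · exact Or.inl h0
      · exact Or.inr (le_antisymm hk (Nat.le_of_dvd h0 h4))

end Cfsg.Agent.Lib.Helper5.FHData
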